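import Groth.Agent.DimOne.Geom
import Groth.Agent.SpQS.GenPts
import Mathlib.Topology.Sober

/-!
Opens with affine inclusion containing a given dense open of a Noetherian scheme.
-/

set_option autoImplicit false
set_option linter.style.haveILetI false
set_option backward.isDefEq.respectTransparency false
set_option backward.isDefEq.respectTransparency.types false

universe u

open CategoryTheory AlgebraicGeometry TopologicalSpace Topology

namespace Groth.Agent.AffIncl

/-- The maximal points of the complement of a set. -/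
def outerGen {S : Scheme.{u}} (U : Set S) : Set S := {η | η ∉ U ∧ ∀ y : S, y ∉ U → y ⤳ η → y = η}

lemma exists_outerGen {S : Scheme.{u}} (V : S.Opens) {z : S} (hz : z ∉ V) :
    ∃ η ∈ outerGen (V : Set S), η ⤳ z := by
  haveI : QuasiSober ↥((V : Set S)ᶜ) :=
    V.isOpen.isClosed_compl.isClosedEmbedding_subtypeVal.quasiSober
  obtain ⟨⟨η, hη⟩, hspec, hmax⟩ := SpQS.exists_isMaxPt_specializes (⟨z, hz⟩ : ↥((V : Set S)ᶜ))
  exact ⟨η, ⟨hη, fun y hy hyη => congrArg Subtype.val (hmax ⟨y, hy⟩ ((subtype_specializes_iff _ _).2 hyη))⟩,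
    hspec.map continuous_subtype_val⟩

lemma finite_outerGen {S : Scheme.{u}} [IsNoetherian S] (U : S.Opens) : (outerGen (U : Set S)).Finite := by
  haveI : NoetherianSpace S := inferInstance
  obtain ⟨T, hTfin, hTc, hTi, hT⟩ :=
    NoetherianSpace.exists_finite_set_isClosed_irreducible U.isOpen.isClosed_compl
  haveI := hTfin.to_subtype
  refine (Set.finite_range fun t : ↥T => (hTi t.1 t.2).genericPoint).subset fun η hη => ?_
  obtain ⟨t, ht, hηt⟩ : η ∈ ⋃₀ T := hT ▸ hη.1
  have hgen := (hTi t ht).isGenericPoint_genericPoint (hTc t ht)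
  refine ⟨⟨t, ht⟩, hη.2 _ ?_ (hgen.specializes hηt)⟩
  show (hTi t ht).genericPoint ∈ (U : Set S)ᶜ
  rw [hT]
  exact ⟨t, ht, hgen.mem⟩

/-- The maximal points outside an open with affine inclusion are maximal points outside a smaller dense
open. -/
lemma mem_outerGen {S : Scheme.{u}} [IsLocallyNoetherian S] {U V : S.Opens} (hU : Dense (U : Set S))
    (hUV : U ≤ V) [IsAffineHom V.ι] {η : S} (hη : η ∈ outerGen (V : Set S)) : η ∈ outerGen (U : Set S) := by
  refine ⟨fun h => hη.1 (hUV h), fun y hy hyη => ?_⟩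
  by_contra hne
  have h1 : Order.coheight η ≤ 1 := by
    have h := DimOne.ringKrullDim_stalk_le_one V η hη.1 hη.2
    rw [ringKrullDim_stalk_eq_coheight] at h
    exact_mod_cast h
  have hlt : η < y := lt_of_le_not_ge hyη fun h => hne ((Specializes.antisymm hyη h).eq)
  have h0 : Order.coheight y = 0 := by
    have h2 : Order.coheight y + 1 ≤ 1 := (Order.coheight_add_one_le hlt).trans h1
    have h3 : Order.coheight y + 1 ≤ 0 + 1 := by rwa [zero_add]
    exact le_antisymm ((ENat.addLECancellable_coe 1).add_le_add_iff_right.1 h3) bot_le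
  refine hy (DimOne.mem_of_dense_of_ringKrullDim_le_zero U hU y ?_)
  rw [ringKrullDim_stalk_eq_coheight, h0]
  rfl

lemma isAffineHom_inf {S : Scheme.{u}} (V W : S.Opens) [IsAffineHom V.ι] [IsAffineHom W.ι] :
    IsAffineHom (V ⊓ W).ι := by
  have key : ∀ (T : S.Opens) [IsAffineHom T.ι] (A : S.Opens), IsAffineOpen A → IsAffineOpen (T ⊓ A) := by
    intro T _ A hA
    have h := (hA.preimage T.ι).image_of_isOpenImmersion T.ι
    rwa [Scheme.Hom.image_preimage_eq_opensRange_inf, Scheme.Opens.opensRange_ι] at h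
  refine ⟨fun A hA => ?_⟩
  rw [← (V ⊓ W).ι.isAffineOpen_iff_of_isOpenImmersion, Scheme.Hom.image_preimage_eq_opensRange_inf,
    Scheme.Opens.opensRange_ι, inf_assoc]
  exact key V _ (key W A hA)

/-- The main statement. -/
theorem finite_and_least (S : Scheme.{u}) [IsNoetherian S] (U : S.Opens) (hU : Dense (U : Set S)) :
    Set.Finite {V : S.Opens | U ≤ V ∧ IsAffineHom V.ι} ∧
      ∃ V₀ : S.Opens, (U ≤ V₀ ∧ IsAffineHom V₀.ι) ∧ ∀ V : S.Opens, U ≤ V → IsAffineHom V.ι → V₀ ≤ V := by
  classical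
  set P := {V : S.Opens | U ≤ V ∧ IsAffineHom V.ι}
  have hfin : P.Finite := by
    haveI := (finite_outerGen U).to_subtype
    refine Set.Finite.of_finite_image (f := fun V : S.Opens => {η : ↥(outerGen (U : Set S)) | η.1 ∉ V})
      (Set.toFinite _) ?_
    have aux : ∀ V ∈ P, ∀ W ∈ P,
        {η : ↥(outerGen (U : Set S)) | η.1 ∉ V} ⊆ {η : ↥(outerGen (U : Set S)) | η.1 ∉ W} → W ≤ V := by
      intro V hV W hW h z hz
      by_contra hzV
      haveI := hV.2
      obtain ⟨η, hη, hηz⟩ := exists_outerGen V hzV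
      exact h (show (⟨η, mem_outerGen hU hV.1 hη⟩ : ↥(outerGen (U : Set S))) ∈ _ from hη.1)
        (hηz.mem_open W.isOpen hz)
    intro V hV W hW h
    exact le_antisymm (aux W hW V hV h.ge) (aux V hV W hW h.le)
  refine ⟨hfin, ?_⟩
  have htop : (⊤ : S.Opens) ∈ P := ⟨le_top, by
    haveI : IsIso (⊤ : S.Opens).ι := (Scheme.topIso S).isIso_hom
    infer_instance⟩
  have hinf : hfin.toFinset.inf id ∈ P := Finset.inf_induction htop (fun V hV W hW => ⟨le_inf hV.1 hW.1, by
    haveI := hV.2; haveI := hW.2; exact isAffineHom_inf V W⟩) fun V hV => hfin.mem_toFinset.1 hV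
  exact ⟨_, hinf, fun V h1 h2 => Finset.inf_le (f := id) (hfin.mem_toFinset.2 ⟨h1, h2⟩)⟩

end Groth.Agent.AffIncl
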